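import Mathlib

set_option autoImplicit false

namespace Groth.Agent.H8.LocFact

open IsLocalRing

/-- A Noetherian local ring having a prime ideal generated by one non-zero-divisor is a domain. -/
theorem isDomain_of_principal_prime {A : Type*} [CommRing A] [IsNoetherianRing A] [IsLocalRing A]
    (𝔭 : Ideal A) [h𝔭 : 𝔭.IsPrime] (t : A) (ht : t ∈ nonZeroDivisors A)
    (h : 𝔭 = Ideal.span {t}) : IsDomain A := by
  obtain ⟨𝔮, h𝔮min, h𝔮le⟩ := Ideal.exists_minimalPrimes_le (I := ⊥) (J := 𝔭) bot_le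
  haveI h𝔮 : 𝔮.IsPrime := h𝔮min.1.1
  have htp : t ∈ 𝔭 := by rw [h]; exact Ideal.subset_span rfl
  have ht𝔮 : t ∉ 𝔮 := fun hmem =>
    Set.disjoint_left.mp (Ideal.disjoint_nonZeroDivisors_of_mem_minimalPrimes h𝔮min) hmem ht
  have hle : 𝔮 ≤ 𝔭 • 𝔮 := by
    intro x hx
    have hx𝔭 : x ∈ Ideal.span {t} := by rw [← h]; exact h𝔮le hx
    obtain ⟨y, rfl⟩ := Ideal.mem_span_singleton'.mp hx𝔭
    have hy : y ∈ 𝔮 := (h𝔮.mem_or_mem hx).resolve_right ht𝔮
    have hmem : t * y ∈ 𝔭 • 𝔮 := Submodule.smul_mem_smul htp hy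
    rw [mul_comm]
    exact hmem
  have hjac : 𝔭 ≤ Ideal.jacobson ⊥ := by
    rw [IsLocalRing.jacobson_eq_maximalIdeal ⊥ bot_ne_top]
    exact IsLocalRing.le_maximalIdeal h𝔭.ne_top
  have h𝔮bot : 𝔮 = ⊥ :=
    Submodule.eq_bot_of_le_smul_of_le_jacobson_bot 𝔭 𝔮 (IsNoetherian.noetherian 𝔮) hle hjac
  haveI : (⊥ : Ideal A).IsPrime := h𝔮bot ▸ h𝔮
  exact IsDomain.of_bot_isPrime A

/-- A Noetherian local ring with a non-maximal prime has a prime of height one. -/
theorem exists_height_one {A : Type*} [CommRing A] [IsNoetherianRing A] [IsLocalRing A]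
    (𝔮 : Ideal A) [h𝔮 : 𝔮.IsPrime] (hne : 𝔮 ≠ maximalIdeal A) :
    ∃ 𝔭 : PrimeSpectrum A, 𝔭.asIdeal.height = 1 := by
  have hlt : 𝔮 < maximalIdeal A :=
    lt_of_le_of_ne (IsLocalRing.le_maximalIdeal h𝔮.ne_top) hne
  obtain ⟨l, hlast, hlen⟩ := Ideal.exists_ltSeries_length_eq_height (maximalIdeal A)
  have hpos : (1 : ℕ∞) ≤ (maximalIdeal A).height :=
    le_trans le_add_self (Ideal.height_add_one_le_of_lt_of_isPrime hlt)
  have hlen1 : 1 ≤ l.length := by
    have : (1 : ℕ∞) ≤ (l.length : ℕ∞) := by rw [hlen]; exact hpos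
    exact_mod_cast this
  have hh : (l.length : ℕ∞) = Order.height l.last := by
    rw [hlen, hlast, ← PrimeSpectrum.height_eq_orderHeight]
  have key := Order.height_eq_index_of_length_eq_height_last hh ⟨1, by omega⟩
  refine ⟨l ⟨1, by omega⟩, ?_⟩
  rw [PrimeSpectrum.height_eq_orderHeight, key]
  simp

/-- A Noetherian domain all of whose height-one primes are principal is factorial. -/
theorem ufm_of_height_one_principal {A : Type*} [CommRing A] [IsDomain A] [IsNoetherianRing A]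
    (H : ∀ 𝔭 : PrimeSpectrum A, 𝔭.asIdeal.height = 1 → ∃ t : A, 𝔭.asIdeal = Ideal.span {t}) :
    UniqueFactorizationMonoid A := by
  haveI : WfDvdMonoid A := IsNoetherianRing.wfDvdMonoid
  refine { irreducible_iff_prime := ?_ }
  intro a
  refine ⟨fun ha => ?_, Prime.irreducible⟩
  have ha0 : a ≠ 0 := ha.ne_zero
  have hau : ¬ IsUnit a := ha.not_isUnit
  have hne : Ideal.span {a} ≠ ⊤ := by rwa [Ne, Ideal.span_singleton_eq_top]
  obtain ⟨M, hM, hle⟩ := Ideal.exists_le_maximal _ hne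
  haveI := hM.isPrime
  obtain ⟨𝔭, h𝔭min, -⟩ := Ideal.exists_minimalPrimes_le hle
  haveI h𝔭 : 𝔭.IsPrime := h𝔭min.1.1
  have ha𝔭 : a ∈ 𝔭 := h𝔭min.1.2 (Ideal.subset_span rfl)
  have hht1 : 𝔭.height ≤ 1 :=
    Ideal.height_le_one_of_isPrincipal_of_mem_minimalPrimes (Ideal.span {a}) 𝔭 h𝔭min
  have hht0 : 𝔭.height ≠ 0 := by
    rw [Ne, Ideal.height_eq_zero_iff_eq_bot]
    intro hbot
    rw [hbot] at ha𝔭
    exact ha0 ((Submodule.mem_bot A).mp ha𝔭)
  have hht : 𝔭.height = 1 := le_antisymm hht1 (Order.one_le_iff_ne_zero.mpr hht0)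
  obtain ⟨t, ht⟩ := H ⟨𝔭, h𝔭⟩ hht
  have ht' : 𝔭 = Ideal.span {t} := ht
  have hat : a ∈ Ideal.span {t} := by rw [← ht']; exact ha𝔭
  obtain ⟨u, hu⟩ := Ideal.mem_span_singleton'.mp hat
  have htu : ¬ IsUnit t := by
    intro hunit
    apply h𝔭.ne_top
    rw [ht', Ideal.span_singleton_eq_top]
    exact hunit
  have huu : IsUnit u := (ha.isUnit_or_isUnit hu.symm).resolve_right htu
  have hspan : Ideal.span {a} = 𝔭 := by
    rw [ht', ← hu]
    exact Ideal.span_singleton_mul_left_unit huu t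
  rw [← Ideal.span_singleton_prime ha0, hspan]
  exact h𝔭

/-- In a factorial domain every height-one prime is generated by a non-zero-divisor. -/
theorem principal_of_ufm {A : Type*} [CommRing A] [IsDomain A] [UniqueFactorizationMonoid A]
    (𝔭 : Ideal A) [h𝔭 : 𝔭.IsPrime] (hht : 𝔭.height = 1) :
    ∃ t ∈ nonZeroDivisors A, 𝔭 = Ideal.span {t} := by
  have hne : 𝔭 ≠ ⊥ := Ideal.ne_bot_of_height_eq_one hht
  obtain ⟨x, hx, hxp⟩ := h𝔭.exists_mem_prime_of_ne_bot hne
  exact ⟨x, mem_nonZeroDivisors_of_ne_zero hxp.ne_zero,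
    Ideal.eq_span_singleton_of_height_eq_one hht hx hxp⟩

/-- A prime of a Noetherian ring which is both minimal and maximal is an open point. -/
theorem isOpen_singleton_of_min_max {R : Type*} [CommRing R] [IsNoetherianRing R]
    (P : PrimeSpectrum R) (hmin : ∀ Q : PrimeSpectrum R, Q ≤ P → Q = P)
    (hmax : ∀ Q : PrimeSpectrum R, P ≤ Q → Q = P) : IsOpen ({P} : Set (PrimeSpectrum R)) := by
  classical
  have hfin : (minimalPrimes R).Finite := minimalPrimes.finite_of_isNoetherianRing (R := R)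
  let T : Finset (Ideal R) := hfin.toFinset.erase P.asIdeal
  have hex : ∃ f : R, f ∈ T.inf id ∧ f ∉ P.asIdeal := by
    by_contra hcon
    push_neg at hcon
    have hle : T.inf id ≤ P.asIdeal := fun f hf => hcon f hf
    obtain ⟨Q, hQT, hQP⟩ := (Ideal.IsPrime.inf_le' P.2).mp hle
    have hQmin : Q ∈ minimalPrimes R := hfin.mem_toFinset.mp (Finset.mem_of_mem_erase hQT)
    have hQne : Q ≠ P.asIdeal := Finset.ne_of_mem_erase hQT
    haveI : Q.IsPrime := hQmin.1.1
    exact hQne (congrArg PrimeSpectrum.asIdeal (hmin ⟨Q, inferInstance⟩ hQP))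
  obtain ⟨f, hfT, hfP⟩ := hex
  have hset : ({P} : Set (PrimeSpectrum R)) = (PrimeSpectrum.basicOpen f : Set (PrimeSpectrum R)) := by
    ext Q
    simp only [Set.mem_singleton_iff, SetLike.mem_coe, PrimeSpectrum.mem_basicOpen]
    constructor
    · rintro rfl
      exact hfP
    · intro hfQ
      obtain ⟨Q', hQ'min, hQ'le⟩ :=
        Ideal.exists_minimalPrimes_le (I := ⊥) (J := Q.asIdeal) bot_le
      by_cases hQ' : Q' = P.asIdeal
      · apply hmax
        change P.asIdeal ≤ Q.asIdeal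
        rw [← hQ']
        exact hQ'le
      · exfalso
        have hmemT : Q' ∈ T := Finset.mem_erase.mpr ⟨hQ', hfin.mem_toFinset.mpr hQ'min⟩
        have hfQ' : f ∈ Q' := (Finset.inf_le hmemT : T.inf id ≤ id Q') hfT
        exact hfQ (hQ'le hfQ')
  rw [hset]
  exact (PrimeSpectrum.basicOpen f).isOpen

end Groth.Agent.H8.LocFact
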