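import Mathlib
import Groth.Agent.Lib.Helper1.StalkGen
import Groth.Agent.Lib.Helper8.LocFact.Alg

set_option autoImplicit false
universe u
open CategoryTheory AlgebraicGeometry TopologicalSpace Opposite

namespace Groth.Agent.H8.LocFact

open Groth.Agent.H1.StalkGen

variable {X : Scheme.{u}}

/-- A point of a locally Noetherian scheme with no proper generization and no proper
specialization is an open point. -/
theorem isOpen_singleton [IsLocallyNoetherian X] (x : X) (hgen : ∀ z : X, z ⤳ x → z = x)
    (hspec : ∀ y : X, x ⤳ y → y = x) : IsOpen ({x} : Set X) := by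
  obtain ⟨_, ⟨V, hV, rfl⟩, hxV, -⟩ := X.isBasis_affineOpens.exists_subset_of_mem_open
    (Set.mem_univ x) isOpen_univ
  have hV : IsAffineOpen V := hV
  have hxV : x ∈ V := hxV
  haveI : IsNoetherianRing Γ(X, V) := IsLocallyNoetherian.component_noetherian ⟨V, hV⟩
  have hPx : hV.fromSpec (hV.primeIdealOf ⟨x, hxV⟩) = x := hV.fromSpec_primeIdealOf ⟨x, hxV⟩
  have hinj : Function.Injective hV.fromSpec :=
    (Scheme.Hom.isOpenEmbedding hV.fromSpec).injective
  have hopen : IsOpen ({hV.primeIdealOf ⟨x, hxV⟩} : Set (PrimeSpectrum Γ(X, V))) := by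
    apply isOpen_singleton_of_min_max
    · intro Q hQ
      apply hinj
      rw [hPx]
      apply hgen
      rw [← hPx]
      exact ((PrimeSpectrum.le_iff_specializes Q _).mp hQ).map hV.fromSpec.continuous
    · intro Q hQ
      apply hinj
      rw [hPx]
      apply hspec
      rw [← hPx]
      exact ((PrimeSpectrum.le_iff_specializes _ Q).mp hQ).map hV.fromSpec.continuous
  obtain ⟨P', hP'⟩ : ∃ P' : ↥(Spec Γ(X, V)), P' = hV.primeIdealOf ⟨x, hxV⟩ := ⟨_, rfl⟩
  have hPx' : hV.fromSpec P' = x := by rw [hP']; exact hPx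
  have hopen' : IsOpen ({P'} : Set ↥(Spec Γ(X, V))) := by
    subst hP'
    exact hopen
  have himg : (⇑hV.fromSpec '' ({P'} : Set ↥(Spec Γ(X, V)))) = {x} := by
    rw [Set.image_singleton, hPx']
  rw [← himg]
  exact (Scheme.Hom.isOpenEmbedding hV.fromSpec).isOpenMap _ hopen'

theorem locFact_iff (X : Scheme.{u}) [IsLocallyNoetherian X]
    (hred : ∀ x : ↥X, IsOpen ({x} : Set ↥X) → IsReduced ↑(X.presheaf.stalk x)) :
    (∀ ζ : ↥X, ringKrullDim ↑(X.presheaf.stalk ζ) = 1 → ∀ (x : ↥X) (h : ζ ⤳ x),
        ∃ t : ↑(X.presheaf.stalk x), t ∈ nonZeroDivisors ↑(X.presheaf.stalk x) ∧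
          (IsLocalRing.maximalIdeal ↑(X.presheaf.stalk ζ)).comap (X.presheaf.stalkSpecializes h).hom =
            Ideal.span {t}) ↔
      ∀ x : ↥X, ∃ _ : IsDomain ↑(X.presheaf.stalk x), UniqueFactorizationMonoid ↑(X.presheaf.stalk x) := by
  constructor
  · intro H
    have H' : ∀ (x : X) (𝔭 : PrimeSpectrum (X.presheaf.stalk x)), 𝔭.asIdeal.height = 1 →
        ∃ t ∈ nonZeroDivisors (X.presheaf.stalk x), 𝔭.asIdeal = Ideal.span {t} := by
      intro x 𝔭 h𝔭
      have hs := fromSpecStalk_specializes x 𝔭
      have hdim : ringKrullDim (X.presheaf.stalk (X.fromSpecStalk x 𝔭)) = 1 := by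
        rw [ringKrullDim_stalk_eq_height hs, primeOf_fromSpecStalk, h𝔭]
        rfl
      obtain ⟨t, ht, he⟩ := H _ hdim x hs
      refine ⟨t, ht, ?_⟩
      have he' : (primeOf hs).asIdeal = Ideal.span {t} := he
      rwa [primeOf_fromSpecStalk] at he'
    have dom1 : ∀ x : X, (∃ 𝔭 : PrimeSpectrum (X.presheaf.stalk x), 𝔭.asIdeal.height = 1) →
        IsDomain (X.presheaf.stalk x) := by
      rintro x ⟨𝔭, h𝔭⟩
      obtain ⟨t, ht, he⟩ := H' x 𝔭 h𝔭
      haveI := 𝔭.2
      exact isDomain_of_principal_prime 𝔭.asIdeal t ht he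
    have dom : ∀ x : X, IsDomain (X.presheaf.stalk x) := by
      intro x
      by_cases h1 : ∃ 𝔭 : PrimeSpectrum (X.presheaf.stalk x), 𝔭.asIdeal.height = 1
      · exact dom1 x h1
      have hall : ∀ 𝔮 : PrimeSpectrum (X.presheaf.stalk x),
          𝔮.asIdeal = IsLocalRing.maximalIdeal (X.presheaf.stalk x) := by
        intro 𝔮
        by_contra hne
        haveI := 𝔮.2
        exact h1 (exists_height_one 𝔮.asIdeal hne)
      have hgen : ∀ z : X, z ⤳ x → z = x := by
        intro z hz
        have h3 := fromSpecStalk_primeOf hz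
        have h4 : primeOf hz = IsLocalRing.closedPoint (X.presheaf.stalk x) :=
          PrimeSpectrum.ext (hall _)
        rw [h4, Scheme.fromSpecStalk_closedPoint] at h3
        exact h3.symm
      by_cases h2 : ∀ y : X, x ⤳ y → y = x
      · haveI := hred x (isOpen_singleton x hgen h2)
        have hnil : IsLocalRing.maximalIdeal (X.presheaf.stalk x) = ⊥ := by
          have h5 : nilradical (X.presheaf.stalk x) = ⊥ := by
            rw [← Ideal.zero_eq_bot]
            exact nilradical_eq_zero _
          rw [← h5, nilradical_eq_sInf]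
          apply le_antisymm
          · exact le_sInf fun J hJ => (hall ⟨J, hJ⟩).ge
          · exact sInf_le (IsLocalRing.maximalIdeal.isMaximal _).isPrime
        haveI : (⊥ : Ideal (X.presheaf.stalk x)).IsPrime :=
          hnil ▸ (IsLocalRing.maximalIdeal.isMaximal _).isPrime
        exact IsDomain.of_bot_isPrime _
      · push_neg at h2
        obtain ⟨y, hxy, hne⟩ := h2
        have hnm : (primeOf hxy).asIdeal ≠ IsLocalRing.maximalIdeal (X.presheaf.stalk y) := by
          intro he
          apply hne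
          have h4 : primeOf hxy = IsLocalRing.closedPoint (X.presheaf.stalk y) :=
            PrimeSpectrum.ext he
          have h3 := fromSpecStalk_primeOf hxy
          rw [h4, Scheme.fromSpecStalk_closedPoint] at h3
          exact h3
        haveI := (primeOf hxy).2
        haveI : IsDomain (X.presheaf.stalk y) := dom1 y (exists_height_one _ hnm)
        letI : Algebra (X.presheaf.stalk y) (X.presheaf.stalk x) :=
          (X.presheaf.stalkSpecializes hxy).hom.toAlgebra
        haveI := isLocalization_stalkSpecializes hxy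
        exact IsLocalization.isDomain_of_atPrime (X.presheaf.stalk x) (primeOf hxy).asIdeal
    intro x
    refine ⟨dom x, ?_⟩
    haveI := dom x
    exact ufm_of_height_one_principal fun 𝔭 h => by
      obtain ⟨t, -, he⟩ := H' x 𝔭 h
      exact ⟨t, he⟩
  · intro H ζ hζ x h
    obtain ⟨hd, hu⟩ := H x
    haveI := hd
    haveI := hu
    have hht : (primeOf h).asIdeal.height = 1 := by
      have h1 := ringKrullDim_stalk_eq_height h
      rw [hζ] at h1
      exact_mod_cast h1.symm
    haveI := (primeOf h).2
    obtain ⟨t, ht, he⟩ := principal_of_ufm (primeOf h).asIdeal hht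
    exact ⟨t, ht, he⟩

end Groth.Agent.H8.LocFact
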